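import Mathlib
import Groth.Agent.DiffLib.Basic
import Groth.Agent.S2196

/-! The different and the Noether different of a finite free algebra cut out the same set. -/

set_option autoImplicit false
set_option linter.style.haveILetI false

universe u v

open TensorProduct

namespace Groth.Agent.Tate

variable {A : Type u} {B : Type v} [CommRing A] [CommRing B] [Algebra A B]
  [Module.Finite A B] [Module.Free A B]

/-- The Noether different is contained in the different. -/
theorem noetherDifferent_subset_differentSet :
    (Disc.noetherDifferent A B : Set B) ⊆ Disc.differentSet A B := by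
  classical
  let b := Module.Free.chooseBasis A B
  intro y hy φ
  obtain ⟨ξ, hξ, rfl⟩ := (Ideal.mem_map_iff_of_surjective _
    (fun z => ⟨z ⊗ₜ 1, by simp⟩)).mp hy
  have hc := (DiffLib.mem_annihilator_iff ξ).mp hξ
  let r : B ⊗[A] B →ₗ[A] B := TensorProduct.lift
    (LinearMap.mk₂ A (fun a c => Algebra.trace A B c • a) (by simp) (fun m a c => smul_comm _ _ _)
      (fun a c c' => by simp [add_smul]) (fun m a c => by simp [mul_smul]))
  let s : B → B ⊗[A] B →ₗ[A] B := fun x => r ∘ₗ LinearMap.mulRight A ((1 : B) ⊗ₜ[A] x)
  -- the trace of the second factor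
  have hr : r ξ = Algebra.TensorProduct.lmul' A ξ := by
    have h : ∀ z : B ⊗[A] B, r z = ∑ j, TensorProduct.lift
        (LinearMap.mk₂ A (fun a c => b.coord j c • a) (by simp) (fun m a c => smul_comm _ _ _)
          (fun a c c' => by simp [add_smul]) (fun m a c => by simp [mul_smul])) (z * (1 ⊗ₜ b j)) := by
      intro z
      induction z using TensorProduct.induction_on with
      | zero => simp
      | tmul a c =>
        simp only [r, TensorProduct.lift.tmul, LinearMap.mk₂_apply, Algebra.TensorProduct.tmul_mul_tmul,
          mul_one, ← Finset.sum_smul]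
        congr 1
        rw [← DiffLib.sum_smul_coord b |> fun h => congrArg (fun w : Disc.Omega A B => w.toLinearMap c) h |> fun h =>
          (show _ = Algebra.trace A B c from h)]
        let π : Disc.Omega A B →+ A := AddMonoidHom.mk' (fun l => l.toLinearMap c) fun _ _ => rfl
        show π _ = _
        rw [map_sum]
        exact Finset.sum_congr rfl fun j _ => by simp [π, DiffLib.coord, mul_comm]
      | add u w hu hw => simp only [map_add, add_mul, hu, hw, Finset.sum_add_distrib]
    rw [h]
    have h2 : ∀ j, ξ * (1 ⊗ₜ[A] b j) = ξ * (b j ⊗ₜ[A] (1 : B)) := fun j => by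
      rw [mul_comm, ← hc, mul_comm]
    simp only [h2]
    generalize ξ = z
    induction z using TensorProduct.induction_on with
    | zero => simp
    | tmul a c =>
      simp only [Algebra.TensorProduct.tmul_mul_tmul, mul_one, TensorProduct.lift.tmul,
        LinearMap.mk₂_apply, Algebra.TensorProduct.lmul'_apply_tmul, Module.Basis.coord_apply]
      conv_rhs => rw [← b.sum_repr c, Finset.mul_sum]
      exact Finset.sum_congr rfl fun j _ => by rw [Algebra.mul_smul_comm]
    | add u w hu hw => simp only [map_add, add_mul, Finset.sum_add_distrib, hu, hw]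
  refine ⟨DiffLib.ev ⟨φ⟩ ξ, fun x => ?_⟩
  calc φ (Algebra.TensorProduct.lmul' A ξ * x) = φ (r (ξ * (x ⊗ₜ 1))) := by
        rw [← hr]
        congr 1
        generalize ξ = z
        induction z using TensorProduct.induction_on with
        | zero => simp
        | tmul a c => simp [r, smul_mul_assoc]
        | add u w hu hw => simp only [map_add, add_mul, hu, hw]
    _ = φ (r (ξ * (1 ⊗ₜ x))) := by rw [mul_comm ξ, hc, mul_comm]
    _ = Algebra.trace A B (DiffLib.ev ⟨φ⟩ ξ * x) := by
        generalize ξ = z
        induction z using TensorProduct.induction_on with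
        | zero => simp
        | tmul a c => simp [r, smul_mul_assoc, mul_comm]
        | add u w hu hw => simp only [map_add, add_mul, hu, hw]

/-- The square of an element of the different is in the Noether different. -/
theorem mul_self_mem_noetherDifferent {y : B} (hy : y ∈ Disc.differentSet A B) :
    y * y ∈ Disc.noetherDifferent A B := by
  classical
  let b := Module.Free.chooseBasis A B
  choose c hc using hy
  have hc' : ∀ l : Disc.Omega A B, y • l = c l.toLinearMap • Disc.Omega.trace A B := fun l =>
    Disc.Omega.ext (LinearMap.ext fun x => hc l.toLinearMap x)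
  have hann : ∀ z : B, z • Disc.Omega.trace A B = 0 → y * z = 0 := by
    intro z hz
    refine (Module.forall_dual_apply_eq_zero_iff A _).mp fun φ => ?_
    rw [hc φ z]
    have := congrArg (fun l : Disc.Omega A B => l.toLinearMap (c φ)) hz
    simpa [Disc.Omega.trace, mul_comm] using this
  have huniq : ∀ (l : Disc.Omega A B) (z : B), y • l = z • Disc.Omega.trace A B →
      y * c l.toLinearMap = y * z := by
    intro l z hz
    rw [← sub_eq_zero, ← mul_sub]
    exact hann _ (by rw [sub_smul, ← hc', hz, sub_self])
  let Φ : Disc.Omega A B →ₗ[B] B :=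
    { toFun := fun l => y * c l.toLinearMap
      map_add' := fun l l' => by
        rw [huniq (l + l') (c l.toLinearMap + c l'.toLinearMap) (by rw [smul_add, add_smul, hc', hc']), mul_add]
      map_smul' := fun r l => by
        rw [huniq (r • l) (r * c l.toLinearMap) (by rw [smul_comm, hc', mul_smul])]
        simp [mul_left_comm] }
  have hset := DiffLib.noetherDifferent_eq (A := A) b
  rw [← SetLike.mem_coe, hset]
  refine ⟨Φ, ?_⟩
  show y * c (Disc.Omega.trace A B).toLinearMap = y * y
  exact huniq _ y rfl

theorem differentSet_subset_iff (q : Ideal B) [q.IsPrime] :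
    Disc.differentSet A B ⊆ q ↔ ¬ Algebra.IsUnramifiedAt A q := by
  haveI : Algebra.FiniteType A B := inferInstance
  have h := Set.ext_iff.mp (S2196.result (A := A) (B := B)) ⟨q, inferInstance⟩
  have h' : Disc.noetherDifferent A B ≤ q ↔ ¬ Algebra.IsUnramifiedAt A q := h
  rw [← h']
  exact ⟨fun hD => noetherDifferent_subset_differentSet.trans hD,
    fun hN y hy => ((inferInstance : q.IsPrime).mem_or_mem (hN (mul_self_mem_noetherDifferent hy))).elim id id⟩

end Groth.Agent.Tate
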