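import Mathlib
import Groth.Agent.LC.Sop
import Groth.Agent.LC.TightSop
import Groth.Agent.CotTLib.CI

/-!
# The determinant is not in the ideal

In a regular local ring with parameters `x` and a system of parameters `f = Δ x` the determinant
of `Δ` is not in `(f)`.
-/

set_option autoImplicit false

universe u

open IsLocalRing

namespace Groth.Agent.Tate

/-- A coset of an ideal avoiding finitely many primes. -/
theorem exists_add_notMem {R : Type u} [CommRing R] (s : Finset (Ideal R)) (hs : ∀ p ∈ s, p.IsPrime)
    (x : R) (J : Ideal R) (h : ∀ p ∈ s, x ∈ p → ¬ J ≤ p) : ∃ y ∈ J, ∀ p ∈ s, x + y ∉ p := by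
  classical
  let T := s.filter fun p => ∀ q ∈ s, p ≤ q → q = p
  have hTs : ∀ p ∈ T, p ∈ s := fun p hp => (Finset.mem_filter.mp hp).1
  suffices hT : ∃ y ∈ J, ∀ p ∈ T, x + y ∉ p by
    obtain ⟨y, hy, hy'⟩ := hT
    refine ⟨y, hy, fun p hp => ?_⟩
    obtain ⟨q, hpq, hq⟩ := s.finite_toSet.exists_le_maximal hp
    exact fun hmem => hy' q (Finset.mem_filter.mpr ⟨hq.1, fun r hr hqr =>
      le_antisymm (hq.2 hr hqr) hqr⟩) (hpq hmem)
  obtain ⟨K, hK⟩ : ∃ K, K = ∏ p ∈ T.filter (fun p => x ∉ p), p := ⟨_, rfl⟩
  obtain ⟨I, hI⟩ : ∃ I, I = J * K := ⟨_, rfl⟩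
  obtain ⟨y, hyI, hy⟩ : ∃ y ∈ I, ∀ p ∈ T.filter (fun p => x ∈ p), y ∉ p := by
    by_contra hc
    push Not at hc
    have hsub : (I : Set R) ⊆ ⋃ p ∈ (T.filter fun p => x ∈ p : Finset (Ideal R)), (p : Set R) := by
      intro y hy
      obtain ⟨p, hp, hyp⟩ := hc y hy
      exact Set.mem_biUnion hp hyp
    have hprime : ∀ p ∈ T.filter (fun p => x ∈ p), p ≠ ⊥ → p ≠ ⊥ → ((fun q : Ideal R => q) p).IsPrime :=
      fun p hp _ _ => hs p (hTs p (Finset.mem_filter.mp hp).1)
    obtain ⟨p, hp, hle⟩ := (Ideal.subset_union_prime (f := fun q : Ideal R => q) (⊥ : Ideal R) ⊥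
      hprime (I := I)).mp hsub
    obtain ⟨hpT, hxp⟩ := Finset.mem_filter.mp hp
    have hpp : p.IsPrime := hs p (hTs p hpT)
    have hle' : J * K ≤ p := hI ▸ hle
    rcases (Ideal.IsPrime.mul_le hpp).mp hle' with h1 | h1
    · exact h p (hTs p hpT) hxp h1
    · rw [hK] at h1
      obtain ⟨q, hq, hqp⟩ := (Ideal.IsPrime.prod_le hpp).mp h1
      obtain ⟨hqT, hxq⟩ := Finset.mem_filter.mp hq
      have := (Finset.mem_filter.mp hqT).2 p (hTs p hpT) hqp
      exact hxq (this ▸ hxp)
  rw [hI] at hyI
  refine ⟨y, Ideal.mul_le_left hyI, fun p hp hmem => ?_⟩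
  by_cases hxp : x ∈ p
  · exact hy p (Finset.mem_filter.mpr ⟨hp, hxp⟩) ((Ideal.add_mem_iff_right p hxp).mp hmem)
  · have hle : K ≤ p := by
      rw [hK, ← Finset.mul_prod_erase (T.filter fun q => x ∉ q) (fun q => q)
        (Finset.mem_filter.mpr ⟨hp, hxp⟩)]
      exact Ideal.mul_le_left
    exact hxp ((Ideal.add_mem_iff_left p (hle (Ideal.mul_le_right hyI))).mp hmem)

variable {P : Type u} [CommRing P] {n : ℕ}

/-- The first `j` values of `a`, followed by those of `b`. -/
def mix {α : Type u} (j : ℕ) (a b : Fin n → α) : Fin n → α := fun i => if (i : ℕ) < j then a i else b i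

/-- The matrix with the first `j` rows of `Δ` and the others of the identity. -/
def mixMat (j : ℕ) (Δ : Matrix (Fin n) (Fin n) P) : Matrix (Fin n) (Fin n) P :=
  Matrix.of fun i => if (i : ℕ) < j then Δ i else Pi.single i 1

theorem mixMat_mulVec (j : ℕ) (Δ : Matrix (Fin n) (Fin n) P) (x : Fin n → P) :
    (mixMat j Δ).mulVec x = mix j (Δ.mulVec x) x := by
  funext i
  by_cases h : (i : ℕ) < j
  · simp [mixMat, mix, h, Matrix.mulVec, dotProduct]
  · simp [mixMat, mix, h, Matrix.mulVec, dotProduct, Pi.single_apply]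

variable [IsRegularLocalRing P]

/-- The core induction. -/
theorem det_mixMat_notMem (hD : ringKrullDim P = n) :
    ∀ (j : ℕ), j ≤ n → ∀ (x : Fin n → P) (Δ : Matrix (Fin n) (Fin n) P),
      Ideal.span (Set.range x) = maximalIdeal P →
      (Ideal.span (Set.range (mix j (Δ.mulVec x) x))).radical = maximalIdeal P →
      (mixMat j Δ).det ∉ Ideal.span (Set.range (mix j (Δ.mulVec x) x)) := by
  classical
  have hCM := Groth.Agent.CotTLib.isCM_of_isRegularLocalRing P
  intro j
  induction j with
  | zero =>
    intro _ x Δ hx _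
    have h1 : mixMat 0 Δ = 1 := by
      funext i k
      simp [mixMat, Matrix.one_apply, Pi.single_apply, eq_comm]
    have h2 : mix 0 (Δ.mulVec x) x = x := by funext i; simp [mix]
    rw [h1, h2, Matrix.det_one, hx]
    exact (Ideal.ne_top_iff_one _).mp (maximalIdeal.isMaximal P).ne_top
  | succ j ih =>
    intro hjn x Δ hx hrad hmem
    let jj : Fin n := ⟨j, hjn⟩
    set v := mix (j + 1) (Δ.mulVec x) x with hv
    set l := LC.others v jj with hl
    set L := Ideal.ofList l with hL
    have hspan : ∀ z, Ideal.span (Set.range (Function.update v jj z)) = L ⊔ Ideal.span {z} :=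
      LC.span_update_eq v jj
    have hvspan : Ideal.span (Set.range v) = L ⊔ Ideal.span {v jj} := by
      rw [← hspan, Function.update_eq_self]
    have hlen : l.length + 1 = n := by
      rw [hl, LC.others, List.length_map, Finset.length_toList, Finset.card_erase_of_mem (by simp),
        Finset.card_univ, Fintype.card_fin]
      omega
    have hLm : L ≤ maximalIdeal P :=
      (le_sup_left.trans hvspan.ge).trans (hrad ▸ Ideal.le_radical)
    have hLtop : L ≠ ⊤ := fun e => (maximalIdeal.isMaximal P).ne_top (top_le_iff.mp (e ▸ hLm))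
    have hdim1 : ringKrullDim (P ⧸ L) ≤ 1 := by
      refine (LC.ringKrullDim_quotient_le_card L {v jj} hLtop ?_).trans_eq (by simp)
      rw [Finset.coe_singleton, ← hvspan, hrad]
    -- choose the new parameter
    have hfin : L.minimalPrimes.Finite := Ideal.finite_minimalPrimes_of_isNoetherianRing P L
    let J : Ideal P := Ideal.span (Set.range fun i : Fin n => if (i : ℕ) < j then x i else 0)
    have havoid : ∀ p ∈ hfin.toFinset, x jj ∈ p → ¬ J ≤ p := by
      intro p hp hxp hJ
      rw [Set.Finite.mem_toFinset] at hp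
      have := hp.1.1
      have hpm : p = maximalIdeal P := by
        refine le_antisymm (le_maximalIdeal this.ne_top) ?_
        rw [← hx, Ideal.span_le]
        rintro _ ⟨i, rfl⟩
        rcases lt_trichotomy (i : ℕ) j with hi | hi | hi
        · exact hJ (Ideal.subset_span ⟨i, by simp [hi]⟩)
        · rwa [show i = jj from Fin.ext hi]
        · have hij : i ≠ jj := fun e => by simp [e, jj] at hi
          refine hp.1.2 (Ideal.subset_span ?_)
          simp only [hl, LC.others, List.mem_map, Finset.mem_toList, Finset.mem_erase]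
          exact ⟨i, ⟨hij, Finset.mem_univ _⟩, by simp [hv, mix, show ¬ (i : ℕ) < j + 1 by omega]⟩
      subst hpm
      have hradL : L.radical = maximalIdeal P := by
        refine le_antisymm ((maximalIdeal.isMaximal P).isPrime.radical_le_iff.mpr hLm) ?_
        rw [Ideal.radical_eq_sInf]
        exact le_sInf fun q ⟨hLq, hq⟩ => hp.2 ⟨hq, hLq⟩ (le_maximalIdeal hq.ne_top)
      have h2 := LC.ringKrullDim_quotient_le_card (⊥ : Ideal P) l.toFinset bot_ne_top (by
        rw [bot_sup_eq, ← hradL, hL, Ideal.ofList]; congr 2; ext; simp)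
      rw [ringKrullDim_eq_of_ringEquiv (RingEquiv.quotientBot P), hD] at h2
      have h3 : n ≤ l.toFinset.card := by exact_mod_cast h2
      have := List.toFinset_card_le l
      omega
    obtain ⟨t, htJ, ht⟩ := exists_add_notMem hfin.toFinset
      (fun p hp => (hfin.mem_toFinset.mp hp).1.1) (x jj) J havoid
    obtain ⟨c, hc⟩ := Ideal.mem_span_range_iff_exists_fun.mp htJ
    -- change of coordinates
    let x' := Function.update x jj (x jj + t)
    let E : Matrix (Fin n) (Fin n) P := Matrix.updateRow 1 jj
      (fun i => if (i : ℕ) < j then -c i else if i = jj then 1 else 0)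
    have hEdet : E.det = 1 := by
      rw [Matrix.det_of_lowerTriangular]
      · refine Finset.prod_eq_one fun i _ => ?_
        rcases eq_or_ne i jj with rfl | hi
        · simp [E, jj]
        · simp [E, Matrix.updateRow_ne hi]
      · intro a b hab
        change a < b at hab
        rcases eq_or_ne a jj with rfl | ha
        · have : j < (b : ℕ) := hab
          simp [E, show ¬ (b : ℕ) < j by omega, hab.ne']
        · simp [E, Matrix.updateRow_ne ha, hab.ne]
    have hEx : E.mulVec x' = x := by
      funext i
      rcases eq_or_ne i jj with rfl | hi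
      · simp only [Matrix.mulVec, dotProduct, E, Matrix.updateRow_self]
        calc ∑ k : Fin n, (if (k : ℕ) < j then -c k else if k = jj then 1 else 0) * x' k
            = ∑ k : Fin n, ((if k = jj then x jj + t else 0) - c k * if (k : ℕ) < j then x k else 0) := by
              refine Finset.sum_congr rfl fun k _ => ?_
              rcases eq_or_ne k jj with rfl | hk
              · simp [x', jj]
              · by_cases hkj : (k : ℕ) < j
                · simp [hk, hkj, x', Function.update_of_ne hk]
                · simp [hk, hkj]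
          _ = _ := by rw [Finset.sum_sub_distrib, hc]; simp
      · simp [Matrix.mulVec, dotProduct, E, Matrix.updateRow_ne hi, Matrix.one_apply, x',
          Function.update_of_ne hi]
    let Δ' := Δ * E
    have hΔ'x : Δ'.mulVec x' = Δ.mulVec x := by
      rw [← Matrix.mulVec_mulVec, hEx]
    have hv' : mix (j + 1) (Δ'.mulVec x') x' = v := by
      funext i
      rw [hΔ'x, hv]
      simp only [mix]
      split_ifs with h
      · rfl
      · exact Function.update_of_ne (fun e => h (by rw [e]; exact Nat.lt_succ_self j)) _ _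
    have hM : mixMat (j + 1) Δ' = mixMat (j + 1) Δ * E := by
      funext i k
      simp only [Matrix.mul_apply, mixMat, Matrix.of_apply]
      split_ifs with h
      · rfl
      · have hi : i ≠ jj := fun e => h (by rw [e]; exact Nat.lt_succ_self j)
        simp [Pi.single_apply, E, Matrix.updateRow_ne hi, Matrix.one_apply, eq_comm]
    have hx' : Ideal.span (Set.range x') = maximalIdeal P := by
      refine le_antisymm ?_ ?_
      · rw [Ideal.span_le]
        rintro _ ⟨i, rfl⟩
        rcases eq_or_ne i jj with rfl | hi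
        · simp only [x', Function.update_self, SetLike.mem_coe]
          refine add_mem (hx.le (Ideal.subset_span ⟨_, rfl⟩)) ?_
          refine (Ideal.span_le.mpr ?_) htJ
          rintro _ ⟨i, rfl⟩
          rcases em ((i : ℕ) < j) with h | h
          · simp only [h, if_true]; exact hx.le (Ideal.subset_span ⟨i, rfl⟩)
          · simp [h]
        · simp only [x', Function.update_of_ne hi]; exact hx.le (Ideal.subset_span ⟨i, rfl⟩)
      · rw [← hx, Ideal.span_le]
        rintro _ ⟨i, rfl⟩
        rw [← congrFun hEx i]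
        simp only [Matrix.mulVec, dotProduct, SetLike.mem_coe]
        exact Ideal.sum_mem _ fun k _ =>
          Ideal.mul_mem_left _ _ (Ideal.subset_span (Set.mem_range_self (f := x') k))
    have hvj : mix j (Δ'.mulVec x') x' = Function.update v jj (x jj + t) := by
      funext i
      rcases eq_or_ne i jj with rfl | hi
      · simp [mix, x', jj]
      · rw [Function.update_of_ne hi, ← hv']
        have : (i : ℕ) ≠ j := fun e => hi (Fin.ext e)
        simp [mix, show ((i : ℕ) < j) ↔ (i : ℕ) < j + 1 by omega]
    have hrad' : (L ⊔ Ideal.span {x jj + t}).radical = maximalIdeal P := by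
      refine le_antisymm ((maximalIdeal.isMaximal P).isPrime.radical_le_iff.mpr
        (sup_le hLm (Ideal.span_singleton_le_iff_mem _ |>.mpr ?_))) ?_
      · rw [← hx']; exact Ideal.subset_span ⟨jj, by simp [x']⟩
      rw [Ideal.radical_eq_sInf]
      refine le_sInf fun q ⟨hLq, hq⟩ => ?_
      obtain ⟨p, hp, hpq⟩ := Ideal.exists_minimalPrimes_le (le_sup_left.trans hLq)
      by_contra hne
      have hqm : q < maximalIdeal P := lt_of_le_of_ne (le_maximalIdeal hq.ne_top) fun e => hne e.ge
      have hpq' : p < q := lt_of_le_of_ne hpq fun e => ht p (hfin.mem_toFinset.mpr hp)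
        (e ▸ hLq (Ideal.mem_sup_right (Ideal.mem_span_singleton_self _)))
      have := hp.1.1
      let a : PrimeSpectrum.zeroLocus (L : Set P) := ⟨⟨p, inferInstance⟩, hp.1.2⟩
      let b : PrimeSpectrum.zeroLocus (L : Set P) := ⟨⟨q, hq⟩, le_sup_left.trans hLq⟩
      let m : PrimeSpectrum.zeroLocus (L : Set P) := ⟨⟨maximalIdeal P, inferInstance⟩, hLm⟩
      have h2 : ((2 : ℕ) : WithBot ℕ∞) ≤ ringKrullDim (P ⧸ L) := by
        rw [ringKrullDim_quotient]
        exact Order.LTSeries.length_le_krullDim
          (((RelSeries.singleton _ a).snoc b hpq').snoc m (by rw [RelSeries.last_snoc]; exact hqm))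
      have : ((2 : ℕ) : WithBot ℕ∞) ≤ ((1 : ℕ) : WithBot ℕ∞) := by exact_mod_cast h2.trans hdim1
      exact absurd (Nat.cast_le.mp this) (by norm_num)
    -- the linkage step
    set M := mixMat (j + 1) Δ' with hMdef
    have hdet : M.det = (mixMat (j + 1) Δ).det := by rw [hM, Matrix.det_mul, hEdet, mul_one]
    have hadj : M.adjugate jj jj = (mixMat j Δ').det := by
      rw [Matrix.adjugate_apply]
      congr 1
      funext i k
      rcases eq_or_ne i jj with rfl | hi
      · rw [Matrix.updateRow_self]
        simp [mixMat, jj]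
      · rw [Matrix.updateRow_ne hi]
        have : (i : ℕ) ≠ j := fun e => hi (Fin.ext e)
        simp only [M, mixMat, Matrix.of_apply, show ((i : ℕ) < j) ↔ (i : ℕ) < j + 1 by omega]
    have hkey : M.det * x' jj - M.adjugate jj jj * v jj ∈ L := by
      have h := congrFun (show M.adjugate.mulVec (M.mulVec x') = M.det • x' by
        rw [Matrix.mulVec_mulVec, Matrix.adjugate_mul, Matrix.smul_mulVec, Matrix.one_mulVec]) jj
      rw [hMdef, mixMat_mulVec, hv', ← hMdef] at h
      simp only [Matrix.mulVec, dotProduct, Pi.smul_apply, smul_eq_mul] at h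
      rw [← h, ← Finset.add_sum_erase _ _ (Finset.mem_univ jj), add_sub_cancel_left]
      refine Ideal.sum_mem _ fun i hi => Ideal.mul_mem_left _ _ (Ideal.subset_span ?_)
      simp only [hl, LC.others, Set.mem_setOf_eq, List.mem_map, Finset.mem_toList]
      exact ⟨i, hi, rfl⟩
    rw [← hdet, hvspan] at hmem
    obtain ⟨b, hb, w, hw, hsum⟩ := Submodule.mem_sup.mp hmem
    obtain ⟨d, rfl⟩ := Ideal.mem_span_singleton'.mp hw
    have hmul : v jj * (d * x' jj - M.adjugate jj jj) ∈ L := by
      have : v jj * (d * x' jj - M.adjugate jj jj) =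
          (M.det * x' jj - M.adjugate jj jj * v jj) - b * x' jj := by rw [← hsum]; ring
      rw [this]
      exact sub_mem hkey (Ideal.mul_mem_right _ _ hb)
    have hreg := LC.mem_of_mul_mem_of_sop hCM n hD l (v jj) hlen (by rw [← hL, ← hvspan]; exact hrad) hmul
    refine ih (Nat.le_of_succ_le hjn) x' Δ' hx' (by rw [hvj, hspan]; exact hrad') ?_
    rw [hvj, hspan, ← hadj]
    have : M.adjugate jj jj = d * (x jj + t) - (d * x' jj - M.adjugate jj jj) := by simp [x']
    rw [this]
    exact sub_mem (Ideal.mem_sup_right (Ideal.mul_mem_left _ _ (Ideal.mem_span_singleton_self _)))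
      (Ideal.mem_sup_left hreg)

/-- The determinant is not in the ideal. -/
theorem det_notMem (hD : ringKrullDim P = n) (x f : Fin n → P) (Δ : Matrix (Fin n) (Fin n) P)
    (hx : Ideal.span (Set.range x) = maximalIdeal P) (hf : Δ.mulVec x = f)
    (hrad : (Ideal.span (Set.range f)).radical = maximalIdeal P) :
    Δ.det ∉ Ideal.span (Set.range f) := by
  have h := det_mixMat_notMem hD n le_rfl x Δ hx
  have h1 : mixMat n Δ = Δ := by funext i k; simp [mixMat]
  have h2 : mix n (Δ.mulVec x) x = f := by funext i; simp [mix, hf]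
  rw [h1, h2] at h
  exact h hrad

end Groth.Agent.Tate
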