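import Mathlib
import Groth.Agent.Tate.Socle
import Groth.Agent.DiffLib.Basic

/-!
Duality for finite free complete intersections in as many variables as equations: the trace
corresponds to the Jacobian.
-/

set_option autoImplicit false

universe u

open TensorProduct MvPolynomial

namespace Groth.Agent.Tate

variable {A : Type u} [CommRing A] {n : ℕ}

/-- Divided differences. -/
theorem exists_diff (g : MvPolynomial (Fin n) A) :
    ∃ d : Fin n → MvPolynomial (Fin n ⊕ Fin n) A,
      rename Sum.inl g - rename Sum.inr g = ∑ j, d j * (X (Sum.inl j) - X (Sum.inr j)) := by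
  induction g using MvPolynomial.induction_on with
  | C a => exact ⟨0, by simp⟩
  | add p q hp hq =>
    obtain ⟨d, hd⟩ := hp
    obtain ⟨d', hd'⟩ := hq
    refine ⟨d + d', ?_⟩
    simp only [map_add, Pi.add_apply, add_mul, Finset.sum_add_distrib, ← hd, ← hd']
    ring
  | mul_X p i hp =>
    classical
    obtain ⟨d, hd⟩ := hp
    refine ⟨fun j => d j * X (Sum.inl i) + if j = i then rename Sum.inr p else 0, ?_⟩
    simp only [map_mul, rename_X, add_mul, Finset.sum_add_distrib, ite_mul, zero_mul,
      Finset.sum_ite_eq', Finset.mem_univ, if_true]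
    rw [show ∑ j, d j * X (Sum.inl i) * (X (Sum.inl j) - X (Sum.inr j)) =
      X (Sum.inl i) * ∑ j, d j * (X (Sum.inl j) - X (Sum.inr j)) by
        rw [Finset.mul_sum]; exact Finset.sum_congr rfl fun j _ => by ring, ← hd]
    ring

/-- Divided differences specialise to the partial derivatives. -/
theorem aeval_diff (g : MvPolynomial (Fin n) A) (d : Fin n → MvPolynomial (Fin n ⊕ Fin n) A)
    (hd : rename Sum.inl g - rename Sum.inr g = ∑ j, d j * (X (Sum.inl j) - X (Sum.inr j)))
    (k : Fin n) : aeval (Sum.elim X X) (d k) = pderiv k g := by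
  classical
  have h0 : ∀ q : MvPolynomial (Fin n) A,
      pderiv (Sum.inl k : Fin n ⊕ Fin n) (rename (Sum.inr : Fin n → Fin n ⊕ Fin n) q) = 0 := by
    intro q
    induction q using MvPolynomial.induction_on with
    | C a => simp
    | add p q hp hq => simp [hp, hq]
    | mul_X p i hp => simp [hp, pderiv_X_of_ne]
  have h1 := congrArg (fun z => aeval (Sum.elim (X : Fin n → MvPolynomial (Fin n) A) X)
    (pderiv (Sum.inl k) z)) hd
  simp only [map_sub, h0, sub_zero, pderiv_rename Sum.inl_injective, aeval_rename, Sum.elim_comp_inl,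
    map_zero, map_sum, pderiv_mul, map_add, map_mul, aeval_X, Sum.elim_inl, Sum.elim_inr, sub_self,
    mul_zero, zero_add, pderiv_X_of_ne Sum.inr_ne_inl] at h1
  rw [Finset.sum_eq_single k (fun j _ hj => by
    rw [pderiv_X_of_ne (fun h => hj (Sum.inl_injective h))]; simp) (by simp)] at h1
  simp [pderiv_X_self] at h1
  exact h1.symm

variable (f : Fin n → MvPolynomial (Fin n) A)

variable {B : Type u} [CommRing B] [Algebra A B] (π : MvPolynomial (Fin n) A →ₐ[A] B)
  (hsurj : Function.Surjective π) (hker : RingHom.ker π = Ideal.span (Set.range f))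

/-- A chosen divided difference matrix. -/
noncomputable def diffMat : Matrix (Fin n) (Fin n) (MvPolynomial (Fin n ⊕ Fin n) A) :=
  Matrix.of fun i => (exists_diff (f i)).choose

theorem diffMat_spec (i : Fin n) : rename Sum.inl (f i) - rename Sum.inr (f i) =
    ∑ j, diffMat f i j * (X (Sum.inl j) - X (Sum.inr j)) :=
  (exists_diff (f i)).choose_spec

/-- The evaluation at the two copies of the coordinates. -/
noncomputable def twoEval : MvPolynomial (Fin n ⊕ Fin n) A →ₐ[A] B ⊗[A] B :=
  aeval (Sum.elim (fun i => (π (X i)) ⊗ₜ[A] (1 : B)) (fun i => (1 : B) ⊗ₜ[A] (π (X i))))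

theorem twoEval_inl (g : MvPolynomial (Fin n) A) :
    twoEval π (rename Sum.inl g) = (π g) ⊗ₜ (1 : B) :=
  AlgHom.congr_fun (φ₁ := (twoEval π).comp (rename Sum.inl))
    (φ₂ := (Algebra.TensorProduct.includeLeft : B →ₐ[A] B ⊗[A] B).comp π)
    (MvPolynomial.algHom_ext fun i => by simp [twoEval]) g

theorem twoEval_inr (g : MvPolynomial (Fin n) A) :
    twoEval π (rename Sum.inr g) = (1 : B) ⊗ₜ (π g) :=
  AlgHom.congr_fun (φ₁ := (twoEval π).comp (rename Sum.inr))
    (φ₂ := (Algebra.TensorProduct.includeRight : B →ₐ[A] B ⊗[A] B).comp π)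
    (MvPolynomial.algHom_ext fun i => by simp [twoEval]) g

include hker in
theorem π_f (i : Fin n) : π (f i) = 0 :=
  RingHom.mem_ker.mp (hker.ge (Ideal.subset_span ⟨i, rfl⟩))

/-- The canonical element. -/
noncomputable def xi : B ⊗[A] B := twoEval π (diffMat f).det

include hsurj hker in
theorem xi_mem : xi f π ∈ Submodule.annihilator
    (RingHom.ker (Algebra.TensorProduct.lmul' (S := B) A)) := by
  let M := (twoEval π).toRingHom.mapMatrix (diffMat f)
  let w : Fin n → B ⊗[A] B := fun j => (π (X j)) ⊗ₜ (1 : B) - (1 : B) ⊗ₜ (π (X j))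
  have hMw : M.mulVec w = 0 := by
    funext i
    have h := congrArg (twoEval π) (diffMat_spec f i)
    rw [map_sub, twoEval_inl, twoEval_inr, π_f f π hker, TensorProduct.zero_tmul, TensorProduct.tmul_zero,
      sub_zero, map_sum] at h
    simp only [Matrix.mulVec, dotProduct, Pi.zero_apply]
    rw [h]
    refine Finset.sum_congr rfl fun j _ => ?_
    simp [M, w, twoEval]
  have hdet : ∀ j, xi f π * w j = 0 := by
    intro j
    have h0 : (M.adjugate * M).mulVec w = 0 := by
      rw [← Matrix.mulVec_mulVec, hMw, Matrix.mulVec_zero]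
    rw [Matrix.adjugate_mul, Matrix.smul_mulVec, Matrix.one_mulVec] at h0
    have h := congrFun h0 j
    simp only [Pi.smul_apply, smul_eq_mul, Pi.zero_apply] at h
    rw [xi]
    exact (congrArg (· * w j) (RingHom.map_det (twoEval π).toRingHom _)).trans h
  rw [DiffLib.mem_annihilator_iff]
  intro c
  obtain ⟨g, rfl⟩ := hsurj c
  induction g using MvPolynomial.induction_on with
  | C a =>
    rw [← MvPolynomial.algebraMap_eq, AlgHom.commutes, Algebra.algebraMap_eq_smul_one,
      TensorProduct.smul_tmul]
  | add p q hp hq => simp only [map_add, TensorProduct.add_tmul, TensorProduct.tmul_add, add_mul, hp, hq]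
  | mul_X p i hp =>
    have hi : ((π (X i)) ⊗ₜ[A] (1 : B)) * xi f π = ((1 : B) ⊗ₜ[A] (π (X i))) * xi f π := by
      refine sub_eq_zero.mp ?_
      refine Eq.trans ?_ (hdet i)
      simp only [w]
      ring
    have e1 : (π (p * X i)) ⊗ₜ[A] (1 : B) = ((π p) ⊗ₜ 1) * ((π (X i)) ⊗ₜ 1) := by
      rw [map_mul, Algebra.TensorProduct.tmul_mul_tmul, one_mul]
    have e2 : (1 : B) ⊗ₜ[A] (π (p * X i)) = ((1 : B) ⊗ₜ π p) * (1 ⊗ₜ π (X i)) := by
      rw [map_mul, Algebra.TensorProduct.tmul_mul_tmul, one_mul]
    rw [e1, e2, mul_assoc, hi, ← mul_assoc, mul_comm ((π p) ⊗ₜ[A] (1 : B)), mul_assoc, hp,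
      ← mul_assoc, mul_comm ((1 : B) ⊗ₜ[A] π (X i))]

theorem lmul_xi : Algebra.TensorProduct.lmul' A (xi f π) =
    π (Matrix.det (Matrix.of fun i j => pderiv j (f i))) := by
  have h : (Algebra.TensorProduct.lmul' (S := B) A).comp (twoEval π) =
      (π).comp (aeval (Sum.elim X X)) :=
    MvPolynomial.algHom_ext fun s => by rcases s with s | s <;> simp [twoEval]
  rw [xi]
  refine (AlgHom.congr_fun h _).trans ?_
  rw [AlgHom.comp_apply]
  congr 1
  rw [AlgHom.map_det]
  congr 1
  funext i j
  exact aeval_diff _ _ (diffMat_spec f i) j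

/-- The functional-to-element map attached to `xi`. -/
noncomputable def dualMap : Disc.Omega A B →ₗ[B] B where
  toFun l := DiffLib.ev l (xi f π)
  map_add' l l' := DiffLib.ev_add l l' _
  map_smul' c l := by
    rw [DiffLib.ev_smul, (DiffLib.mem_annihilator_iff _).mp (xi_mem f π hsurj hker) c, ← DiffLib.mul_ev]
    rfl

include hsurj hker in
/-- Algebra maps out of `B`. -/
theorem exists_factor {T : Type u} [CommRing T] [Algebra A T] (g : MvPolynomial (Fin n) A →ₐ[A] T)
    (hg : ∀ i, g (f i) = 0) : ∃ ψ : B →ₐ[A] T, ∀ z, ψ (π z) = g z := by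
  have h : RingHom.ker π ≤ RingHom.ker g := by
    rw [hker, Ideal.span_le]
    rintro _ ⟨i, rfl⟩
    exact hg i
  exact ⟨AlgHom.liftOfSurjective π hsurj g h, fun z => AlgHom.liftOfSurjective_apply _ _ _ _ z⟩

/-- The product of two algebra maps into a commutative algebra. -/
theorem exists_pairing {T : Type u} [CommRing T] [Algebra A T] (χ₁ χ₂ : B →ₐ[A] T) :
    ∃ χ : B ⊗[A] B →ₐ[A] T, ∀ x y, χ (x ⊗ₜ y) = χ₁ x * χ₂ y :=
  ⟨Algebra.TensorProduct.productMap χ₁ χ₂, fun _ _ => Algebra.TensorProduct.productMap_apply_tmul ..⟩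

/-- The local ring of affine space at a rational point. -/
theorem regular_point {K : Type u} [Field K] (a : Fin n → K) (m : Ideal (MvPolynomial (Fin n) K))
    [m.IsPrime] (hma : m = RingHom.ker (aeval (R := K) a : MvPolynomial (Fin n) K →ₐ[K] K))
    (hm : m = Ideal.span (Set.range fun i => X i - C (a i))) :
    IsRegularLocalRing (Localization.AtPrime m) ∧ ringKrullDim (Localization.AtPrime m) = n := by
  let P := Localization.AtPrime m
  let ι : MvPolynomial (Fin n) K →+* P := algebraMap _ _
  have hmax : IsLocalRing.maximalIdeal P = Ideal.span (Set.range fun i => ι (X i - C (a i))) := by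
    rw [← Localization.AtPrime.map_eq_maximalIdeal]
    refine (congrArg (Ideal.map _) hm).trans ?_
    rw [Ideal.map_span, ← Set.range_comp]
    rfl
  have : IsNoetherianRing P := IsLocalization.isNoetherianRing m.primeCompl P inferInstance
  have hdim_ge : (n : WithBot ℕ∞) ≤ ringKrullDim P := by
    let sub : ℕ → MvPolynomial (Fin n) K →ₐ[K] MvPolynomial (Fin n) K := fun k =>
      aeval fun i => if (i : ℕ) < k then C (a i) else X i
    let Q : ℕ → PrimeSpectrum (MvPolynomial (Fin n) K) := fun k =>
      ⟨RingHom.ker (sub k), RingHom.ker_isPrime _⟩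
    have hcomp : ∀ k, k < n → sub (k + 1) = (sub (k + 1)).comp (sub k) := by
      intro k _
      refine MvPolynomial.algHom_ext fun i => ?_
      by_cases h : (i : ℕ) < k
      · simp [sub, h, show (i : ℕ) ≤ k by omega]
      · simp [sub, h]
    have hlt : ∀ k, k < n → Q k < Q (k + 1) := by
      intro k hk
      refine lt_of_le_of_ne ?_ ?_
      · intro g hg
        show sub (k + 1) g = 0
        rw [hcomp k hk, AlgHom.comp_apply, show sub k g = 0 from hg, map_zero]
      · intro e
        have h1 : sub (k + 1) (X ⟨k, hk⟩ - C (a ⟨k, hk⟩)) = 0 := by simp [sub]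
        have h2 : (X ⟨k, hk⟩ - C (a ⟨k, hk⟩)) ∈ (Q k).asIdeal := by rw [e]; exact h1
        have h3 : (X ⟨k, hk⟩ : MvPolynomial (Fin n) K) - C (a ⟨k, hk⟩) = 0 := by
          simpa [Q, sub] using h2
        have h4 := congrArg (MvPolynomial.eval fun _ => a ⟨k, hk⟩ + 1) h3
        simp at h4
    have hQn : (Q n).asIdeal = m := by
      have : sub n = (Algebra.ofId K (MvPolynomial (Fin n) K)).comp (aeval a) :=
        MvPolynomial.algHom_ext fun i => by simp [sub]
      ext g
      refine Iff.trans ?_ (SetLike.ext_iff.mp hma g).symm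
      show sub n g = 0 ↔ aeval a g = 0
      rw [this, AlgHom.comp_apply]
      exact map_eq_zero_iff _ (C_injective (Fin n) K)
    have hh : ∀ k, k ≤ n → (k : ℕ∞) ≤ Order.height (Q k) := by
      intro k
      induction k with
      | zero => intro _; simp
      | succ k ih =>
        intro hk
        push_cast
        exact le_trans (by gcongr; exact ih (by omega)) (Order.height_add_one_le (hlt k hk))
    rw [IsLocalization.AtPrime.ringKrullDim_eq_height m P]
    have : m.height = Order.height (Q n) :=
      (congrArg Ideal.height hQn.symm).trans (PrimeSpectrum.height_eq_orderHeight _)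
    rw [this]
    exact WithBot.coe_le_coe.mpr (hh n le_rfl)
  have hspan : (IsLocalRing.maximalIdeal P).spanFinrank ≤ n := by
    rw [hmax]
    refine (Submodule.spanFinrank_span_le_ncard_of_finite (Set.finite_range _)).trans ?_
    rw [← Set.image_univ]
    exact (Set.ncard_image_le Set.finite_univ).trans (by simp)
  have hR : IsRegularLocalRing P := IsRegularLocalRing.of_spanFinrank_maximalIdeal_le _
    ((Nat.cast_le.mpr hspan).trans hdim_ge)
  have hD : ringKrullDim P = n :=
    le_antisymm ((ringKrullDim_le_spanFinrank_maximalIdeal P).trans (Nat.cast_le.mpr hspan)) hdim_ge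
  exact ⟨hR, hD⟩

section point

variable {K : Type u} [Field K] [Algebra A K]

include hsurj hker in
/-- Finite complete intersections have the expected dimension at rational points. -/
theorem det_notMem_point [Module.Finite A B] (φ : B →ₐ[A] K) :
    let a := fun i => φ (π (X i))
    let m := RingHom.ker (aeval (R := K) a : MvPolynomial (Fin n) K →ₐ[K] K)
    ∀ [m.IsPrime], algebraMap (MvPolynomial (Fin n) K) (Localization.AtPrime m)
        (aeval (Sum.elim X (fun i => C (a i))) (diffMat f).det) ∉
      (Ideal.span (Set.range fun i => aeval (X : Fin n → MvPolynomial (Fin n) K) (f i))).map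
        (algebraMap (MvPolynomial (Fin n) K) (Localization.AtPrime m)) := by
  classical
  intro a m _
  let P := Localization.AtPrime m
  let ι : MvPolynomial (Fin n) K →+* P := algebraMap _ _
  let fK : Fin n → MvPolynomial (Fin n) K := fun i => aeval X (f i)
  let Δ : Matrix (Fin n) (Fin n) (MvPolynomial (Fin n) K) :=
    (aeval (Sum.elim X (fun i => C (a i))) : MvPolynomial (Fin n ⊕ Fin n) A →ₐ[A] _).mapMatrix
      (diffMat f)
  have hfa : ∀ i, aeval a (f i) = 0 := fun i => by
    have : (aeval a : MvPolynomial (Fin n) A →ₐ[A] K) = φ.comp π :=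
      MvPolynomial.algHom_ext fun j => by simp [a]
    rw [this, AlgHom.comp_apply, π_f f π hker, map_zero]
  have hΔ : ∀ i, fK i = ∑ j, Δ i j * (X j - C (a j)) := by
    intro i
    have h := congrArg (aeval (Sum.elim (X : Fin n → MvPolynomial (Fin n) K) (fun i => C (a i))))
      (diffMat_spec f i)
    rw [map_sub, aeval_rename, aeval_rename, Sum.elim_comp_inl, Sum.elim_comp_inr, map_sum] at h
    have hC : aeval (fun i => (C (a i) : MvPolynomial (Fin n) K)) (f i) = 0 := by
      have : aeval (fun i => algebraMap K (MvPolynomial (Fin n) K) (a i)) (f i) =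
          algebraMap K (MvPolynomial (Fin n) K) (aeval a (f i)) :=
        MvPolynomial.aeval_algebraMap_apply _ _ _
      rw [hfa, map_zero] at this
      exact this
    rw [hC, sub_zero] at h
    show aeval X (f i) = _
    rw [h]
    exact Finset.sum_congr rfl fun j _ => by simp [Δ]
  have hm : m = Ideal.span (Set.range fun i => X i - C (a i)) := by
    refine le_antisymm (fun g hg => ?_) (Ideal.span_le.mpr ?_)
    · have : ∀ g : MvPolynomial (Fin n) K, g - C (aeval a g) ∈
          Ideal.span (Set.range fun i => X i - C (a i)) := by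
        intro g
        induction g using MvPolynomial.induction_on with
        | C c => simp
        | add p q hp hq =>
          convert add_mem hp hq using 1
          simp only [map_add]
          ring
        | mul_X p i hp =>
          convert add_mem (Ideal.mul_mem_right (X i) _ hp)
            (Ideal.mul_mem_left _ (C (aeval a p)) (Ideal.subset_span ⟨i, rfl⟩)) using 1
          simp only [map_mul, aeval_X]
          ring
      have h2 := this g
      rw [show aeval a g = 0 from hg] at h2
      simpa using h2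
    · rintro _ ⟨i, rfl⟩
      show aeval a (X i - C (a i)) = 0
      simp
  have hmax : IsLocalRing.maximalIdeal P = Ideal.span (Set.range fun i => ι (X i - C (a i))) := by
    rw [← Localization.AtPrime.map_eq_maximalIdeal]
    refine (congrArg (Ideal.map _) hm).trans ?_
    rw [Ideal.map_span, ← Set.range_comp]
    rfl
  obtain ⟨hreg, hD⟩ := regular_point a m rfl hm
  have hle : Ideal.span (Set.range fK) ≤ m := Ideal.span_le.mpr (by
    rintro _ ⟨i, rfl⟩
    rw [hΔ i, hm]
    exact Ideal.sum_mem _ fun j _ => Ideal.mul_mem_left _ _ (Ideal.subset_span ⟨j, rfl⟩))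
  have hrad : (Ideal.span (Set.range fun i => ι (fK i))).radical = IsLocalRing.maximalIdeal P := by
    have hsp : Ideal.span (Set.range fun i => ι (fK i)) = (Ideal.span (Set.range fK)).map ι := by
      rw [Ideal.map_span, ← Set.range_comp]; rfl
    rw [hsp]
    refine le_antisymm ((IsLocalRing.maximalIdeal.isMaximal P).isPrime.radical_le_iff.mpr ?_) ?_
    · rw [← Localization.AtPrime.map_eq_maximalIdeal]; exact Ideal.map_mono hle
    rw [Ideal.radical_eq_sInf]
    refine le_sInf fun q ⟨hq, hqp⟩ => ?_
    let q0 := q.comap ι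
    have hq0m : q0 ≤ m := by
      intro g hg
      by_contra hgm
      exact hqp.ne_top (Ideal.eq_top_of_isUnit_mem q hg (IsLocalization.map_units P (⟨g, hgm⟩ : m.primeCompl)))
    have hfq : Ideal.span (Set.range fK) ≤ q0 := Ideal.map_le_iff_le_comap.mp hq
    obtain ⟨ψ, hψ⟩ := exists_factor f π hsurj hker
      ((Ideal.Quotient.mkₐ A q0).comp
        (aeval (X : Fin n → MvPolynomial (Fin n) K) : MvPolynomial (Fin n) A →ₐ[A] _))
      (fun i => Ideal.Quotient.eq_zero_iff_mem.mpr (hfq (Ideal.subset_span ⟨i, rfl⟩)))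
    have hint : ∀ z : MvPolynomial (Fin n) K ⧸ q0, IsIntegral K z := by
      intro z
      obtain ⟨g, rfl⟩ := Ideal.Quotient.mk_surjective z
      induction g using MvPolynomial.induction_on with
      | C c => exact isIntegral_algebraMap (A := MvPolynomial (Fin n) K ⧸ q0) (x := c)
      | add p q hp hq => rw [map_add]; exact hp.add hq
      | mul_X p i hp =>
        rw [map_mul]
        refine hp.mul ?_
        have h1 : IsIntegral A (π (X i)) := Algebra.IsIntegral.isIntegral _
        have h2 := (h1.map ψ).tower_top (A := K)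
        have h3 : ψ (π (X i)) = Ideal.Quotient.mk q0 (X i) := by
          rw [hψ, AlgHom.comp_apply, aeval_X]; rfl
        rwa [h3] at h2
    haveI : Algebra.IsIntegral K (MvPolynomial (Fin n) K ⧸ q0) := ⟨hint⟩
    haveI : q0.IsPrime := hqp.comap ι
    have hfield := isField_of_isIntegral_of_isField' (R := K)
      (S := MvPolynomial (Fin n) K ⧸ q0) (Field.toIsField K)
    have hq0max : q0.IsMaximal := Ideal.Quotient.maximal_of_isField _ hfield
    have hq0 : q0 = m := hq0max.eq_of_le (by exact Ideal.IsPrime.ne_top inferInstance) hq0m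
    rw [← Localization.AtPrime.map_eq_maximalIdeal]
    exact Ideal.map_le_iff_le_comap.mpr hq0.ge
  have hmul : (ι.mapMatrix Δ).mulVec (fun i => ι (X i - C (a i))) = fun i => ι (fK i) := by
    funext i
    rw [hΔ i, map_sum]
    simp [Matrix.mulVec, dotProduct]
  have key := det_notMem (P := P) hD (fun i => ι (X i - C (a i))) (fun i => ι (fK i)) (ι.mapMatrix Δ)
    hmax.symm hmul hrad
  rw [← RingHom.map_det] at key
  have hdet : Δ.det = aeval (Sum.elim X (fun i => C (a i))) (diffMat f).det :=
    (AlgHom.map_det _ _).symm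
  rw [hdet] at key
  convert key using 1
  rw [Ideal.map_span, ← Set.range_comp]
  rfl

include hsurj hker in
theorem exists_apply_dualMap_ne_zero [Module.Finite A B] [Module.Free A B] (φ : B →ₐ[A] K) :
    ∃ l, φ (dualMap f π hsurj hker l) ≠ 0 := by
  classical
  by_contra hc
  push Not at hc
  let a := fun i => φ (π (X i))
  let m := RingHom.ker (aeval (R := K) a : MvPolynomial (Fin n) K →ₐ[K] K)
  haveI : m.IsPrime := RingHom.ker_isPrime _
  have hnot := det_notMem_point f π hsurj hker φ
  let I : Ideal (Localization.AtPrime m) :=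
    (Ideal.span (Set.range fun i => aeval (X : Fin n → MvPolynomial (Fin n) K) (f i))).map
      (algebraMap (MvPolynomial (Fin n) K) (Localization.AtPrime m))
  let ρ : MvPolynomial (Fin n) K →ₐ[A] Localization.AtPrime m ⧸ I :=
    (Ideal.Quotient.mkₐ A I).comp
      (IsScalarTower.toAlgHom A (MvPolynomial (Fin n) K) (Localization.AtPrime m))
  have hρf : ∀ i, ρ (aeval (X : Fin n → MvPolynomial (Fin n) K) (f i)) = 0 := fun i =>
    Ideal.Quotient.eq_zero_iff_mem.mpr
      (Ideal.mem_map_of_mem _ (Ideal.subset_span (Set.mem_range_self i)))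
  obtain ⟨χ₁, hχ₁⟩ := exists_factor f π hsurj hker (T := Localization.AtPrime m ⧸ I)
    (ρ.comp (aeval (X : Fin n → MvPolynomial (Fin n) K) : MvPolynomial (Fin n) A →ₐ[A] _)) hρf
  let χ₂ : B →ₐ[A] Localization.AtPrime m ⧸ I :=
    (ρ.comp (IsScalarTower.toAlgHom A K (MvPolynomial (Fin n) K))).comp φ
  obtain ⟨χ, hχ⟩ := exists_pairing (T := Localization.AtPrime m ⧸ I) χ₁ χ₂
  have h1 : χ (xi f π) = ρ (aeval (Sum.elim X (fun i => C (a i))) (diffMat f).det) := by
    have : χ.comp (twoEval π) = ρ.comp (aeval (Sum.elim X (fun i => C (a i)))) := by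
      refine MvPolynomial.algHom_ext fun s => ?_
      rcases s with s | s
      · simp only [twoEval, AlgHom.comp_apply, aeval_X, Sum.elim_inl, hχ, hχ₁, map_one, mul_one]
      · simp [twoEval, hχ, χ₂, a]
    exact AlgHom.congr_fun this _
  have h2 : χ (xi f π) = 0 := by
    let b := Module.Free.chooseBasis A B
    rw [DiffLib.eq_mkXi b (xi f π), DiffLib.mkXi, map_sum]
    refine Finset.sum_eq_zero fun i _ => ?_
    have hz : φ (DiffLib.ev (DiffLib.coord b i) (xi f π)) = 0 := hc _
    rw [hχ]
    show χ₁ _ * ρ _ = 0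
    simp [hz]
  rw [h2] at h1
  exact hnot (Ideal.Quotient.eq_zero_iff_mem.mp h1.symm)

end point

theorem dualMap_surjective [Module.Finite A B] [Module.Free A B] :
    Function.Surjective (dualMap f π hsurj hker) := by
  rw [← LinearMap.range_eq_top]
  by_contra hne
  obtain ⟨M, hM, hle⟩ := Ideal.exists_le_maximal (LinearMap.range (dualMap f π hsurj hker)) hne
  let _ := Ideal.Quotient.field M
  obtain ⟨l, hl⟩ := exists_apply_dualMap_ne_zero f π hsurj hker (Ideal.Quotient.mkₐ A M)
  exact hl (Ideal.Quotient.eq_zero_iff_mem.mpr (hle ⟨l, rfl⟩))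

theorem dualMap_bijective [Module.Finite A B] [Module.Free A B] :
    Function.Bijective (dualMap f π hsurj hker) := by
  classical
  let b := Module.Free.chooseBasis A B
  let toΩ : (B →ₗ[A] A) → Disc.Omega A B := Disc.Omega.mk
  let Φ₀ : (B →ₗ[A] A) →ₗ[A] B :=
    { toFun := fun l => dualMap f π hsurj hker (toΩ l)
      map_add' := fun l l' => (dualMap f π hsurj hker).map_add (toΩ l) (toΩ l')
      map_smul' := fun r l => by
        have : toΩ (r • l) = algebraMap A B r • toΩ l := by
          refine Disc.Omega.ext (LinearMap.ext fun x => ?_)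
          show r • l x = l (algebraMap A B r * x)
          rw [← Algebra.smul_def, map_smul]
        show dualMap f π hsurj hker (toΩ (r • l)) = r • dualMap f π hsurj hker (toΩ l)
        rw [this, map_smul, algebraMap_smul] }
  have hsurj₀ : Function.Surjective Φ₀ := fun y => by
    obtain ⟨l, hl⟩ := dualMap_surjective f π hsurj hker y
    exact ⟨l.toLinearMap, hl⟩
  have hinj : Function.Injective (Φ₀ ∘ₗ b.toDualEquiv.toLinearMap) :=
    OrzechProperty.injective_of_surjective_endomorphism _ (hsurj₀.comp b.toDualEquiv.surjective)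
  refine ⟨fun l l' h => Disc.Omega.ext ?_, dualMap_surjective f π hsurj hker⟩
  obtain ⟨x, hx⟩ := b.toDualEquiv.surjective l.toLinearMap
  obtain ⟨y, hy⟩ := b.toDualEquiv.surjective l'.toLinearMap
  rw [← hx, ← hy]
  congr 1
  refine hinj ?_
  show dualMap f π hsurj hker (toΩ (b.toDualEquiv x)) = dualMap f π hsurj hker (toΩ (b.toDualEquiv y))
  rw [hx, hy]
  exact h

theorem dualMap_trace [Module.Finite A B] [Module.Free A B] :
    dualMap f π hsurj hker (Disc.Omega.trace A B) = π (Matrix.det (Matrix.of fun i j => pderiv j (f i))) := by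
  classical
  let b := Module.Free.chooseBasis A B
  rw [← DiffLib.lmul_mkXi b (dualMap f π hsurj hker),
    show DiffLib.mkXi b (dualMap f π hsurj hker) = xi f π from (DiffLib.eq_mkXi b (xi f π)).symm, lmul_xi]

include hsurj hker in
/-- Tate's theorem. -/
theorem exists_equiv_omega [Module.Finite A B] [Module.Free A B] :
    ∃ e : B ≃ₗ[B] Disc.Omega A B,
      e (π (Matrix.det (Matrix.of fun i j => pderiv j (f i)))) = Disc.Omega.trace A B := by
  let e := LinearEquiv.ofBijective (dualMap f π hsurj hker) (dualMap_bijective f π hsurj hker)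
  refine ⟨e.symm, e.injective ?_⟩
  rw [e.apply_symm_apply]
  exact (dualMap_trace f π hsurj hker).symm

end Groth.Agent.Tate
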