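import Mathlib
import Groth.Agent.QFD.FibreFlat

/-! Flatness of the relative dualizing module of a flat quasi-finite algebra. -/

set_option autoImplicit false
set_option linter.style.haveILetI false

universe u

open TensorProduct

namespace Groth.Agent.Tate

theorem flat_omega {A B B' : Type u} [CommRing A] [CommRing B] [CommRing B'] [IsNoetherianRing A]
    [Algebra A B] [Module.Flat A B] [Algebra A B'] [Algebra B' B] [IsScalarTower A B' B]
    (hf : QFDual.IsQFFactor A B' B) : Module.Flat A (B ⊗[B'] Disc.Omega A B') := by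
  let Ω' := Disc.Omega A B'
  let f : ∀ (Q : Ideal B) [Q.IsMaximal], B ⊗[B'] Ω' →ₗ[B] Localization.AtPrime Q ⊗[B'] Ω' := fun Q _ =>
    TensorProduct.AlgebraTensorModule.map (Algebra.linearMap B (Localization.AtPrime Q)) LinearMap.id
  have hloc : ∀ (Q : Ideal B) [Q.IsMaximal], IsLocalizedModule.AtPrime Q (f Q) := by
    intro Q _
    refine (isLocalizedModule_iff_isBaseChange Q.primeCompl (Localization.AtPrime Q) (f Q)).mpr ?_
    refine IsBaseChange.of_comp (TensorProduct.isBaseChange B' Ω' B) ?_
    have : (f Q).restrictScalars B' ∘ₗ TensorProduct.mk B' B Ω' 1 =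
        TensorProduct.mk B' (Localization.AtPrime Q) Ω' 1 := by
      ext z; simp [f]
    rw [this]
    exact TensorProduct.isBaseChange B' Ω' (Localization.AtPrime Q)
  exact @Module.flat_of_isLocalized_maximal A B _ _ _ (B ⊗[B'] Ω') _ _ _ _
    (fun Q _ => Localization.AtPrime Q ⊗[B'] Ω') _ _ _ _ f hloc fun Q _ => QFD.flat_omega_atPrime hf Q

end Groth.Agent.Tate
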