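import Mathlib
import Groth.Agent.Tate.Dual
import Groth.Agent.Tate.Fitting
import Groth.Agent.DiffLib.BaseChange
import Groth.Agent.S2237
import Groth.Agent.S9287
import Groth.Agent.KRegLib.SyntBC
import Groth.Agent.Hensel.Local
import Groth.Agent.FlatLoc6.Cpl
import Groth.Agent.BrnchLib.Compl
import Groth.Agent.QFD.FibreFlat

/-!
The different of a finite free syntomic algebra is the Kähler different.
-/

set_option autoImplicit false
set_option linter.style.haveILetI false

universe u

open TensorProduct MvPolynomial KaehlerDifferential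

namespace Groth.Agent.Tate

/-- Square presentations of finite free algebras. -/
theorem noetherDifferent_eq_fitting_of_presentation {A B : Type u} [CommRing A] [CommRing B]
    [Algebra A B] [Module.Finite A B] [Module.Free A B] {n : ℕ}
    (f : Fin n → MvPolynomial (Fin n) A) (π : MvPolynomial (Fin n) A →ₐ[A] B)
    (hsurj : Function.Surjective π) (hker : RingHom.ker π = Ideal.span (Set.range f)) :
    Disc.noetherDifferent A B = Fitt.ideal B (Ω[B⁄A]) 0 := by
  classical
  rw [fitting_kaehler f π hsurj hker]
  let e := LinearEquiv.ofBijective (dualMap f π hsurj hker) (dualMap_bijective f π hsurj hker)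
  refine SetLike.coe_injective ?_
  rw [DiffLib.noetherDifferent_eq (Module.Free.chooseBasis A B)]
  refine Set.ext fun x => ⟨?_, fun hx => ?_⟩
  · rintro ⟨Φ, rfl⟩
    refine Ideal.mem_span_singleton'.mpr ⟨Φ (e.symm 1), ?_⟩
    show _ = Φ _
    conv_rhs => rw [← e.symm_apply_apply (Disc.Omega.trace A B)]
    rw [show e (Disc.Omega.trace A B) = π (Matrix.det (Matrix.of fun i j => pderiv j (f i))) from
      dualMap_trace f π hsurj hker]
    generalize π (Matrix.det (Matrix.of fun i j => pderiv j (f i))) = d
    conv_rhs => rw [show d = d • (1 : B) by simp, map_smul, map_smul, smul_eq_mul]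
    rw [mul_comm]
  · obtain ⟨c, rfl⟩ := Ideal.mem_span_singleton'.mp hx
    refine ⟨c • dualMap f π hsurj hker, ?_⟩
    show c • dualMap f π hsurj hker (Disc.Omega.trace A B) = _
    rw [dualMap_trace, smul_eq_mul]

/-- An ideal is determined by its localisations at a spanning family. -/
theorem ideal_le_of_away {B : Type u} [CommRing B] {ι : Type*} [Fintype ι] (e : ι → B)
    (he : CompleteOrthogonalIdempotents e) (I J : Ideal B)
    (h : ∀ i, I.map (algebraMap B (Localization.Away (e i))) ≤
      J.map (algebraMap B (Localization.Away (e i)))) : I ≤ J := by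
  intro x hx
  rw [show x = ∑ i, e i * x by rw [← Finset.sum_mul, he.complete, one_mul]]
  refine J.sum_mem fun i _ => ?_
  obtain ⟨m, hm, hmx⟩ := (IsLocalization.algebraMap_mem_map_algebraMap_iff (Submonoid.powers (e i))
    (Localization.Away (e i)) J x).mp (h i (Ideal.mem_map_of_mem _ hx))
  obtain ⟨k, rfl⟩ := hm
  rcases k with _ | k
  · simp only [pow_zero, one_mul] at hmx
    exact J.mul_mem_left _ hmx
  · simpa [(he.idem i).pow_succ_eq] using hmx

/-- A henselian base. -/
theorem noetherDifferent_eq_fitting_henselian {A B : Type u} [CommRing A] [CommRing B]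
    [Algebra A B] [IsNoetherianRing A] [HenselianLocalRing A] [Module.Finite A B] [Module.Free A B]
    (h : Synt.IsSyntomic A B) :
    Disc.noetherDifferent A B = Fitt.ideal B (Ω[B⁄A]) 0 := by
  classical
  have hflat : Module.Flat A B := h.1
  have hlci := ((S9287.result A B).mp h).2
  obtain ⟨_, e, he, hM⟩ := Hensel.exists_idempotents_of_henselian A B
  have key : ∀ M, (Disc.noetherDifferent A B).map (algebraMap B (Localization.Away (e M))) =
      (Fitt.ideal B (Ω[B⁄A]) 0).map (algebraMap B (Localization.Away (e M))) := by
    intro M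
    let T := Localization.Away (e M)
    haveI : Algebra.FormallyEtale B T := Algebra.FormallyEtale.of_isLocalization (Submonoid.powers (e M))
    haveI : Module.Finite B B := inferInstance
    have he1 : algebraMap B T (e M) = 1 :=
      (IsUnit.mul_eq_left (IsLocalization.Away.algebraMap_isUnit (S := T) (e M))).mp
        (by rw [← map_mul, (he.idem M).eq])
    have hTsurj : Function.Surjective (algebraMap B T) := fun z => by
      obtain ⟨k, b, hb⟩ := IsLocalization.Away.surj (e M) z
      rw [he1, one_pow, mul_one] at hb
      exact ⟨b, hb.symm⟩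
    haveI : Module.Finite A T :=
      Module.Finite.of_surjective (IsScalarTower.toAlgHom A B T).toLinearMap hTsurj
    haveI : Module.Flat A T := Module.Flat.trans A B T
    haveI : Module.FinitePresentation A T := Module.finitePresentation_of_finite A T
    haveI : Module.Free A T := Module.free_of_flat_of_isLocalRing
    haveI : Algebra.QuasiFinite A B := inferInstance
    obtain ⟨g, hg, n, f, ⟨φ⟩⟩ := S2237.result hlci M.asIdeal
    have hgT : IsUnit (algebraMap B T g) := by
      by_contra hu
      obtain ⟨N, hN, hgN⟩ := exists_max_ideal_of_mem_nonunits hu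
      haveI := hN
      haveI : (N.comap (algebraMap B T)).IsMaximal := Ideal.comap_isMaximal_of_surjective _ hTsurj
      let M' : MaximalSpectrum B := ⟨N.comap (algebraMap B T), inferInstance⟩
      rcases eq_or_ne M' M with hMM | hMM
      · have : g ∈ M'.asIdeal := hgN
        rw [hMM] at this
        exact hg this
      · have : e M ∈ M'.asIdeal := (hM M).2 M' hMM
        refine hN.ne_top (Ideal.eq_top_of_isUnit_mem N (x := algebraMap B T (e M)) this ?_)
        rw [he1]; exact isUnit_one
    let σ : Localization.Away g →ₐ[A] T :=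
      IsLocalization.liftAlgHom (M := Submonoid.powers g) (f := IsScalarTower.toAlgHom A B T)
        (fun s => by
          obtain ⟨k, hk⟩ := s.2
          show IsUnit (algebraMap B T s)
          rw [← hk, map_pow]; exact hgT.pow k)
    obtain ⟨hpoly, hhpoly⟩ := Ideal.Quotient.mk_surjective
      (φ (algebraMap B (Localization.Away g) (e M)))
    let π : MvPolynomial (Fin (n + 1)) A →ₐ[A] T :=
      aeval (Fin.snoc (fun i => σ (φ.symm (Ideal.Quotient.mk _ (X i)))) 1)
    let f' : Fin (n + 1) → MvPolynomial (Fin (n + 1)) A :=
      Fin.snoc (fun i => rename Fin.castSucc (f i)) (rename Fin.castSucc hpoly * X (Fin.last n) - 1)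
    let Q := Ideal.span (Set.range f')
    have hπ : ∀ z : MvPolynomial (Fin n) A,
        π (rename Fin.castSucc z) = σ (φ.symm (Ideal.Quotient.mk _ z)) := fun z =>
      AlgHom.congr_fun (φ₁ := π.comp (rename Fin.castSucc))
        (φ₂ := (σ.comp φ.symm.toAlgHom).comp (Ideal.Quotient.mkₐ A _))
        (MvPolynomial.algHom_ext fun i => by simp [π]) z
    have hσ : ∀ b : B, σ (algebraMap B (Localization.Away g) b) = algebraMap B T b := fun b =>
      IsLocalization.lift_eq _ b
    have hsurj : Function.Surjective π := by
      intro z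
      obtain ⟨b, rfl⟩ := hTsurj z
      obtain ⟨q, hq⟩ := Ideal.Quotient.mk_surjective (φ (algebraMap B (Localization.Away g) b))
      exact ⟨rename Fin.castSucc q, by rw [hπ, hq, AlgEquiv.symm_apply_apply, hσ]⟩
    have hπh : π (rename Fin.castSucc hpoly) = 1 := by
      rw [hπ, hhpoly, AlgEquiv.symm_apply_apply, hσ, he1]
    have hker : RingHom.ker π = Ideal.span (Set.range f') := by
      refine le_antisymm ?_ ?_
      · intro z hz
        -- a map back
        let ren : (MvPolynomial (Fin n) A ⧸ Ideal.span (Set.range f)) →ₐ[A] _ ⧸ Q :=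
          Ideal.Quotient.liftₐ _ ((Ideal.Quotient.mkₐ A Q).comp (rename Fin.castSucc)) (fun w hw => by
            refine RingHom.mem_ker.mp ((Ideal.span_le.mpr ?_ : Ideal.span (Set.range f) ≤
              RingHom.ker ((Ideal.Quotient.mkₐ A Q).comp (rename Fin.castSucc))) hw)
            rintro _ ⟨i, rfl⟩
            exact Ideal.Quotient.eq_zero_iff_mem.mpr
              (Ideal.subset_span ⟨i.castSucc, by simp [f']⟩))
        let ψ : B →ₐ[A] _ ⧸ Q :=
          (ren.comp φ.toAlgHom).comp (IsScalarTower.toAlgHom A B (Localization.Away g))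
        have hψe : ψ (e M) = Ideal.Quotient.mk Q (rename Fin.castSucc hpoly) := by
          simp [ψ, ren, ← hhpoly]
        have hlast : Ideal.Quotient.mk Q (rename Fin.castSucc hpoly) *
            Ideal.Quotient.mk Q (X (Fin.last n)) = 1 := by
          rw [← map_mul, ← map_one (Ideal.Quotient.mk Q), Ideal.Quotient.eq]
          exact Ideal.subset_span ⟨Fin.last n, by simp [f']⟩
        have hunit : IsUnit (ψ (e M)) := hψe ▸ IsUnit.of_mul_eq_one _ hlast
        have h1 : Ideal.Quotient.mk Q (rename Fin.castSucc hpoly) = 1 := by
          rw [← hψe]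
          exact (IsUnit.mul_eq_left hunit).mp (by rw [← map_mul, (he.idem M).eq])
        let τ : T →ₐ[A] _ ⧸ Q :=
          IsLocalization.liftAlgHom (M := Submonoid.powers (e M)) (f := ψ) (fun s => by
            obtain ⟨k, hk⟩ := s.2
            rw [← hk, map_pow]; exact hunit.pow k)
        have hτσ : τ.comp σ = ren.comp φ.toAlgHom := by
          apply AlgHom.coe_ringHom_injective
          refine IsLocalization.ringHom_ext (Submonoid.powers g) (RingHom.ext fun b => ?_)
          show τ (σ (algebraMap B _ b)) = _
          rw [hσ]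
          exact IsLocalization.lift_eq _ b
        have hcomp : τ.comp π = Ideal.Quotient.mkₐ A Q := by
          refine MvPolynomial.algHom_ext fun i => ?_
          induction i using Fin.lastCases with
          | last =>
            rw [h1, one_mul] at hlast
            simp [π, hlast]
          | cast i =>
            have := AlgHom.congr_fun hτσ (φ.symm (Ideal.Quotient.mk _ (X i)))
            simp [ren] at this
            simp [π, this]
        have := AlgHom.congr_fun hcomp z
        rw [AlgHom.comp_apply, RingHom.mem_ker.mp hz, map_zero] at this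
        exact Ideal.Quotient.eq_zero_iff_mem.mp this.symm
      · rw [Ideal.span_le]
        rintro _ ⟨i, rfl⟩
        rw [SetLike.mem_coe, RingHom.mem_ker]
        induction i using Fin.lastCases with
        | last =>
          simp only [f', Fin.snoc_last, map_sub, map_mul, map_one, hπh, one_mul]
          simp [π]
        | cast i =>
          simp only [f', Fin.snoc_castSucc, hπ]
          rw [Ideal.Quotient.eq_zero_iff_mem.mpr (Ideal.subset_span (Set.mem_range_self i)), map_zero, map_zero]
    have hopen : AlgebraicGeometry.IsOpenImmersion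
        (AlgebraicGeometry.Spec.map (CommRingCat.ofHom (algebraMap B T))) :=
      AlgebraicGeometry.IsOpenImmersion.of_isLocalization (e M)
    rw [← DiffLib.noetherDifferent_openImmersion hopen,
      ← FittX.ideal_baseChange (KaehlerDifferential.isBaseChange_of_formallyEtale A B T) 0]
    exact noetherDifferent_eq_fitting_of_presentation f' π hsurj hker
  exact le_antisymm (ideal_le_of_away e he _ _ fun M => (key M).le)
    (ideal_le_of_away e he _ _ fun M => (key M).ge)

/-- Ideals of an algebra are determined by their extensions to the completions of the base. -/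
theorem ideal_le_of_completions {A B : Type u} [CommRing A] [IsNoetherianRing A] [CommRing B]
    [Algebra A B] (I J : Ideal B)
    (h : ∀ m : Ideal A, ∀ _ : m.IsMaximal,
      letI C := EGA4.Cpl (Localization.AtPrime m)
      I.map (Algebra.TensorProduct.includeRight (R := A) (A := C) (B := B)).toRingHom ≤
        J.map (Algebra.TensorProduct.includeRight (R := A) (A := C) (B := B)).toRingHom) :
    I ≤ J := by
  intro x hx
  rw [← Ideal.Quotient.eq_zero_iff_mem]
  refine Module.eq_zero_of_localization_maximal (fun (m : Ideal A) (_ : m.IsMaximal) => LocalizedModule.AtPrime m (B ⧸ J))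
    (fun (m : Ideal A) (_ : m.IsMaximal) => LocalizedModule.mkLinearMap m.primeCompl (B ⧸ J)) _ fun m hm => ?_
  let Am := Localization.AtPrime m
  let C := EGA4.Cpl Am
  haveI : Module.FaithfullyFlat Am C := FlatLoc6.faithfullyFlat_cpl Am
  have h1 := h m hm (Ideal.mem_map_of_mem _ hx)
  let q : C ⊗[A] B →ₗ[A] C ⊗[A] (B ⧸ J) := (Ideal.Quotient.mkₐ A J).toLinearMap.lTensor C
  have hJ : ∀ z : C ⊗[A] B,
      z ∈ Ideal.map (S := C ⊗[A] B)
        (AlgHom.toRingHom (Algebra.TensorProduct.includeRight : B →ₐ[A] C ⊗[A] B)) J →
      ∀ w : C ⊗[A] B, q (w * z) = 0 := by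
    intro z hz
    induction hz using Submodule.span_induction with
    | mem z hz =>
      obtain ⟨j, hj, rfl⟩ := hz
      intro w
      induction w using TensorProduct.induction_on with
      | zero => simp
      | tmul c b =>
        show q ((c ⊗ₜ[A] b) * ((1 : C) ⊗ₜ[A] j)) = 0
        rw [Algebra.TensorProduct.tmul_mul_tmul]
        simp [q, Ideal.Quotient.eq_zero_iff_mem.mpr hj]
      | add a b ha hb => rw [add_mul, map_add, ha, hb, add_zero]
    | zero => intro w; simp
    | add a b _ _ ha hb => intro w; rw [mul_add, map_add, ha, hb, add_zero]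
    | smul r a _ ha => intro w; rw [smul_eq_mul, ← mul_assoc]; exact ha _
  have h2 : q ((1 : C) ⊗ₜ x) = 0 := by
    have := hJ _ h1 1
    rwa [one_mul] at this
  have h3 : (1 : C) ⊗ₜ[A] (Ideal.Quotient.mk J x) = 0 := h2
  obtain ⟨e, hee⟩ : ∃ e : C ⊗[A] (B ⧸ J) ≃ₗ[C] C ⊗[Am] LocalizedModule m.primeCompl (B ⧸ J),
      ∀ z, e (1 ⊗ₜ z) = 1 ⊗ₜ LocalizedModule.mkLinearMap m.primeCompl (B ⧸ J) z := by
    have hb : IsBaseChange Am (LocalizedModule.mkLinearMap m.primeCompl (B ⧸ J)) :=
      IsLocalizedModule.isBaseChange m.primeCompl Am _
    exact ⟨(hb.comp (TensorProduct.isBaseChange Am (LocalizedModule m.primeCompl (B ⧸ J)) C)).equiv,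
      fun z => by simp [IsBaseChange.equiv_tmul]⟩
  have h4 := congrArg e h3
  rw [map_zero, hee] at h4
  exact (Module.FaithfullyFlat.one_tmul_eq_zero_iff _ _ _).mp h4

/-- The Noether different of a finite free syntomic algebra is the Kähler different. -/
theorem noetherDifferent_eq_fitting {A B : Type u} [CommRing A] [CommRing B]
    [Algebra A B] [IsNoetherianRing A] [Module.Finite A B] [Module.Free A B]
    (h : Synt.IsSyntomic A B) :
    Disc.noetherDifferent A B = Fitt.ideal B (Ω[B⁄A]) 0 := by
  have key : ∀ m : Ideal A, ∀ _ : m.IsMaximal,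
      letI C := EGA4.Cpl (Localization.AtPrime m)
      (Disc.noetherDifferent A B).map
          (Algebra.TensorProduct.includeRight (R := A) (A := C) (B := B)).toRingHom =
        (Fitt.ideal B (Ω[B⁄A]) 0).map
          (Algebra.TensorProduct.includeRight (R := A) (A := C) (B := B)).toRingHom := by
    intro m hm
    let C := EGA4.Cpl (Localization.AtPrime m)
    let Am := Localization.AtPrime m
    haveI : HenselianLocalRing C := BrnchLib.henselianLocalRing_completion Am
    haveI : IsNoetherianRing C := FlatLoc6.isNoetherianRing_cpl Am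
    haveI : Module.FaithfullyFlat Am C := FlatLoc6.faithfullyFlat_cpl Am
    haveI : Module.Flat A C := Module.Flat.trans A Am C
    letI : Algebra B (C ⊗[A] B) := Algebra.TensorProduct.rightAlgebra
    haveI : Algebra.IsPushout A C B (C ⊗[A] B) := inferInstance
    haveI : Algebra.IsPushout A B C (C ⊗[A] B) := Algebra.IsPushout.symm inferInstance
    haveI := h.2.1
    haveI : Algebra.FiniteType A B := inferInstance
    have h1 : Disc.noetherDifferent C (C ⊗[A] B) =
        (Disc.noetherDifferent A B).map (algebraMap B (C ⊗[A] B)) :=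
      DiffLib.noetherDifferent_baseChange
    have hbc : IsBaseChange (C ⊗[A] B)
        (((KaehlerDifferential.tensorKaehlerEquiv A C B (C ⊗[A] B)).toLinearMap.restrictScalars B) ∘ₗ
          (TensorProduct.mk B (C ⊗[A] B) (Ω[B⁄A]) 1)) :=
      IsBaseChange.of_equiv (KaehlerDifferential.tensorKaehlerEquiv A C B (C ⊗[A] B)) fun z => by rfl
    have h2 := FittX.ideal_baseChange hbc 0
    have h3 := noetherDifferent_eq_fitting_henselian (KRegLib.isSyntomic_tensor (A' := C) h)
    rw [h1, h2] at h3
    exact h3
  exact le_antisymm (ideal_le_of_completions _ _ fun m hm => (key m hm).le)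
    (ideal_le_of_completions _ _ fun m hm => (key m hm).ge)

/-- The different of a finite free syntomic algebra is the Kähler different. -/
theorem differentSet_eq_fitting {A B : Type u} [CommRing A] [CommRing B]
    [Algebra A B] [IsNoetherianRing A] [Module.Finite A B] [Module.Free A B]
    (h : Synt.IsSyntomic A B) :
    Disc.differentSet A B = (Fitt.ideal B (Ω[B⁄A]) 0 : Set B) := by
  classical
  have hf : QFDual.IsQFFactor A B B :=
    ⟨inferInstance, by
      rw [Algebra.algebraMap_self]
      show AlgebraicGeometry.IsOpenImmersion (AlgebraicGeometry.Spec.map (CategoryTheory.CategoryStruct.id (CommRingCat.of B)))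
      rw [AlgebraicGeometry.Spec.map_id]; infer_instance⟩
  haveI : Module.Invertible B (QFDual.omega A B B) := QFD.invertible_omega_of_syntomic hf h
  haveI : Module.Invertible B (Disc.Omega A B) := Module.Invertible.congr (TensorProduct.lid B (Disc.Omega A B))
  rw [DiffLib.differentSet_eq (Module.Free.chooseBasis A B), noetherDifferent_eq_fitting h]

end Groth.Agent.Tate
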